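import Cfsg.Agent.Lib.SylowLie.Heisenberg
import Cfsg.Agent.Lib.AutPSL.Sylow

/-!
# Systems over a Sylow subgroup of `SL₃` in the defining characteristic
-/

set_option autoImplicit false
set_option linter.style.haveILetI false

open Subgroup Matrix
open scoped Classical commutatorElement Pointwise

namespace CfsgLib.SylowLie

open CfsgLib.Fusion

open Cfsg (FusionSystem)
open Cfsg.FusionSystem (normalizerIn centralizerIn)
open CfsgLib.AutPSL (unitri mem_unitri)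

universe u

section Coordinates

variable {K : Type*} [Field K] [Finite K]

local notation "SL3" => Matrix.SpecialLinearGroup (Fin 3) K

theorem unitri_mul_apply {X Y : SL3} (hX : X ∈ unitri) (hY : Y ∈ unitri) :
    (X * Y).1 0 1 = X.1 0 1 + Y.1 0 1 ∧ (X * Y).1 1 2 = X.1 1 2 + Y.1 1 2 ∧
      (X * Y).1 0 2 = X.1 0 2 + Y.1 0 2 + X.1 0 1 * Y.1 1 2 := by
  obtain ⟨hX1, hX2⟩ := mem_unitri.1 hX
  obtain ⟨hY1, hY2⟩ := mem_unitri.1 hY
  have a : X.1 1 0 = 0 := hX1 (show (0 : Fin 3) < 1 by decide)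
  have b : Y.1 2 1 = 0 := hY1 (show (1 : Fin 3) < 2 by decide)
  refine ⟨?_, ?_, ?_⟩ <;>
    simp [Matrix.mul_apply, Fin.sum_univ_three, a, b, hX2, hY2] <;> ring

theorem unitri_ext {X Y : SL3} (hX : X ∈ unitri) (hY : Y ∈ unitri) (h1 : X.1 0 1 = Y.1 0 1)
    (h2 : X.1 1 2 = Y.1 1 2) (h3 : X.1 0 2 = Y.1 0 2) : X = Y := by
  obtain ⟨hX1, hX2⟩ := mem_unitri.1 hX
  obtain ⟨hY1, hY2⟩ := mem_unitri.1 hY
  refine Subtype.ext (Matrix.ext fun i j => ?_)
  fin_cases i <;> fin_cases j <;> first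
    | exact (hX2 _).trans (hY2 _).symm
    | assumption
    | exact (hX1 (by decide)).trans (hY1 (by decide)).symm

theorem exists_unitri (a b c : K) : ∃ X ∈ (unitri : Subgroup SL3),
    X.1 0 1 = a ∧ X.1 1 2 = c ∧ X.1 0 2 = b := by
  refine ⟨⟨!![1, a, b; 0, 1, c; 0, 0, 1], by simp [Matrix.det_fin_three]⟩,
    mem_unitri.2 ⟨fun i j hij => ?_, fun i => ?_⟩, rfl, rfl, rfl⟩
  · fin_cases i <;> fin_cases j <;> simp_all
  · fin_cases i <;> simp

theorem unitri_commute_iff {X Y : SL3} (hX : X ∈ unitri) (hY : Y ∈ unitri) :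
    Commute X Y ↔ X.1 0 1 * Y.1 1 2 = Y.1 0 1 * X.1 1 2 := by
  obtain ⟨a1, a2, a3⟩ := unitri_mul_apply hX hY
  obtain ⟨b1, b2, b3⟩ := unitri_mul_apply hY hX
  constructor
  · intro h
    rw [h.eq, b3] at a3
    linear_combination -a3
  · intro h
    refine unitri_ext (mul_mem hX hY) (mul_mem hY hX) ?_ ?_ ?_
    · rw [a1, b1, add_comm]
    · rw [a2, b2, add_comm]
    · rw [a3, b3, h]; ring

theorem unitri_central_iff {X : SL3} (hX : X ∈ unitri) :
    (∀ Y ∈ (unitri : Subgroup SL3), Commute X Y) ↔ X.1 0 1 = 0 ∧ X.1 1 2 = 0 := by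
  refine ⟨fun h => ?_, fun ⟨h1, h2⟩ Y hY => (unitri_commute_iff hX hY).2 (by rw [h1, h2]; ring)⟩
  obtain ⟨Y, hY, y1, y2, -⟩ := exists_unitri (K := K) 1 0 0
  obtain ⟨Y', hY', y1', y2', -⟩ := exists_unitri (K := K) 0 0 1
  have e := (unitri_commute_iff hX hY).1 (h Y hY)
  have e' := (unitri_commute_iff hX hY').1 (h Y' hY')
  rw [y1, y2] at e
  rw [y1', y2'] at e'
  exact ⟨by linear_combination e', by linear_combination -e⟩

theorem exists_sylow_unitri (p : ℕ) [Fact p.Prime] [CharP K p] :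
    ∃ P : Sylow p SL3, (P : Subgroup SL3) = unitri := by
  haveI : Finite SL3 := Finite.of_injective (fun X => (X.1 : Matrix _ _ K)) Subtype.val_injective
  have hp : IsPGroup p (unitri : Subgroup SL3) := fun A =>
    ⟨3, Subtype.ext (by rw [Subgroup.coe_pow]; exact CfsgLib.AutPSL.unitri_pow_eq_one A.2)⟩
  obtain ⟨P, hP⟩ := hp.exists_le_sylow
  refine ⟨P, by_contra fun hne => ?_⟩
  haveI : Group.IsNilpotent (P : Subgroup SL3) := P.2.isNilpotent
  obtain ⟨g, ⟨hgP, hgN⟩, hgU⟩ := SetLike.exists_of_lt (lt_inf_normalizer hP (Ne.symm hne))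
  have hup := CfsgLib.AutPSL.upper_of_normalizes
    fun u hu => (Subgroup.mem_normalizer_iff.1 hgN u).1 hu
  have hd : ∀ m : ℕ, BlockTriangular (g ^ m).1 id ∧ ∀ i, (g ^ m).1 i i = g.1 i i ^ m := by
    intro m
    induction m with
    | zero => exact ⟨by simpa using blockTriangular_one, fun i => by simp⟩
    | succ m ih =>
      refine ⟨by rw [pow_succ, Matrix.SpecialLinearGroup.coe_mul]; exact ih.1.mul hup, fun i => ?_⟩
      rw [pow_succ, pow_succ, Matrix.SpecialLinearGroup.coe_mul, Matrix.mul_apply,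
        Finset.sum_eq_single i, ih.2 i]
      · intro j _ hj
        rcases lt_or_gt_of_ne hj with h | h
        · rw [ih.1 (show id j < id i from h), zero_mul]
        · rw [hup (show id i < id j from h), mul_zero]
      · simp
  obtain ⟨k, hk⟩ := P.2 ⟨g, hgP⟩
  refine hgU (mem_unitri.2 ⟨hup, fun i => CfsgLib.AutPSL.eq_one_of_pow_prime_pow (p := p) (k := k) ?_⟩)
  rw [← (hd (p ^ k)).2 i, show g ^ p ^ k = 1 from congrArg Subtype.val hk]
  simp

end Coordinates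

theorem isRealizable_of_sylow_SLThree {Ω : Type u} [Group Ω] {S : Subgroup Ω} [Finite S] {p : ℕ}
    [Fact p.Prime] (hS : IsPGroup p S) (F : FusionSystem S) (hF : F.IsSaturated p) {K : Type*}
    [Field K] [Finite K] [CharP K p] (T : Sylow p (Matrix.SpecialLinearGroup (Fin 3) K))
    (e : S ≃* (T : Subgroup (Matrix.SpecialLinearGroup (Fin 3) K))) (hcore : F.core ≠ ⊥) :
    F.IsRealizable p := by
  haveI : Finite (Matrix.SpecialLinearGroup (Fin 3) K) :=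
    Finite.of_injective (fun X => (X.1 : Matrix _ _ K)) Subtype.val_injective
  obtain ⟨P, hP⟩ := exists_sylow_unitri (K := K) p
  set E : S ≃* (unitri : Subgroup (Matrix.SpecialLinearGroup (Fin 3) K)) :=
    e.trans ((T.equiv P).trans (MulEquiv.subgroupCongr hP))
  set c : S → Matrix.SpecialLinearGroup (Fin 3) K := fun x => (E x : Matrix.SpecialLinearGroup (Fin 3) K)
    with hc
  have hmem : ∀ x : S, c x ∈ (unitri : Subgroup (Matrix.SpecialLinearGroup (Fin 3) K)) := fun x => (E x).2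
  have hmul : ∀ x y : S, c (x * y) = c x * c y := fun x y => by simp [hc]
  have hinj : Function.Injective c := fun x y h => E.injective (Subtype.ext h)
  have hsurj : ∀ X ∈ (unitri : Subgroup (Matrix.SpecialLinearGroup (Fin 3) K)), ∃ x : S, c x = X :=
    fun X hX => ⟨E.symm ⟨X, hX⟩, by simp [hc]⟩
  have hcomm : ∀ x y : S, Commute (x : Ω) (y : Ω) ↔ Commute (c x) (c y) := fun x y => by
    refine ⟨fun h => ?_, fun h => congrArg Subtype.val (hinj ?_ : x * y = y * x)⟩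
    · show c x * c y = c y * c x
      rw [← hmul, ← hmul, show x * y = y * x from Subtype.ext h.eq]
    · rw [hmul, hmul, h.eq]
  have hcen : ∀ x : S, (x : Ω) ∈ centralizerIn S S ↔ (c x).1 0 1 = 0 ∧ (c x).1 1 2 = 0 := by
    intro x
    rw [← unitri_central_iff (hmem x)]
    constructor
    · intro h Y hY
      obtain ⟨y, rfl⟩ := hsurj Y hY
      exact (hcomm x y).1 (Subgroup.mem_centralizer_iff.1 h.2 y y.2).symm
    · intro h
      exact ⟨x.2, Subgroup.mem_centralizer_iff.2 fun y hy =>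
        ((hcomm x ⟨y, hy⟩).2 (h _ (hmem _))).eq.symm⟩
  refine isRealizable_of_heisenberg hS hF ?_ ?_ ?_ hcore
  · intro x hx hxZ y hy z hz hxy hxz
    refine (hcomm ⟨y, hy⟩ ⟨z, hz⟩).2 ((unitri_commute_iff (hmem _) (hmem _)).2 ?_)
    have e1 := (unitri_commute_iff (hmem _) (hmem _)).1 ((hcomm ⟨x, hx⟩ ⟨y, hy⟩).1 hxy)
    have e2 := (unitri_commute_iff (hmem _) (hmem _)).1 ((hcomm ⟨x, hx⟩ ⟨z, hz⟩).1 hxz)
    have hne : ¬ ((c ⟨x, hx⟩).1 0 1 = 0 ∧ (c ⟨x, hx⟩).1 1 2 = 0) := fun h =>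
      hxZ ((hcen ⟨x, hx⟩).2 h)
    rcases not_and_or.1 hne with h | h
    · apply mul_left_cancel₀ h
      linear_combination (-(c ⟨z, hz⟩).1 0 1) * e1 + (c ⟨y, hy⟩).1 0 1 * e2
    · apply mul_left_cancel₀ h
      linear_combination (-(c ⟨z, hz⟩).1 1 2) * e1 + (c ⟨y, hy⟩).1 1 2 * e2
  · intro x hx s hs
    have e1 : x⁻¹ * (s * x * s⁻¹) ∈ S := S.mul_mem (S.inv_mem hx)
      (S.mul_mem (S.mul_mem hs hx) (S.inv_mem hs))
    refine (hcen ⟨_, e1⟩).2 ?_
    have h : c (⟨x, hx⟩ * ⟨_, e1⟩ * ⟨s, hs⟩) = c (⟨s, hs⟩ * ⟨x, hx⟩) := congrArg c (Subtype.ext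
      (show x * (x⁻¹ * (s * x * s⁻¹)) * s = s * x by group))
    rw [hmul, hmul, hmul] at h
    obtain ⟨a1, a2, -⟩ := unitri_mul_apply (hmem ⟨x, hx⟩) (hmem ⟨_, e1⟩)
    obtain ⟨b1, b2, -⟩ := unitri_mul_apply (mul_mem (hmem ⟨x, hx⟩) (hmem ⟨_, e1⟩)) (hmem ⟨s, hs⟩)
    obtain ⟨d1, d2, -⟩ := unitri_mul_apply (hmem ⟨s, hs⟩) (hmem ⟨x, hx⟩)
    rw [h, d1, a1] at b1
    rw [h, d2, a2] at b2
    exact ⟨by linear_combination -b1, by linear_combination -b2⟩
  · intro x hx hxZ z hz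
    obtain ⟨hz1, hz2⟩ := (hcen ⟨z, hz.1⟩).1 hz
    have hne : ¬ ((c ⟨x, hx⟩).1 0 1 = 0 ∧ (c ⟨x, hx⟩).1 1 2 = 0) := fun h =>
      hxZ ((hcen ⟨x, hx⟩).2 h)
    set a := (c ⟨x, hx⟩).1 0 1 with ha
    set cc := (c ⟨x, hx⟩).1 1 2 with hcc
    obtain ⟨s1, s2, hs12⟩ : ∃ s1 s2 : K, s1 * cc - a * s2 = (c ⟨z, hz.1⟩).1 0 2 := by
      rcases not_and_or.1 hne with h | h
      · exact ⟨0, -(c ⟨z, hz.1⟩).1 0 2 / a, by field_simp; ring⟩
      · exact ⟨(c ⟨z, hz.1⟩).1 0 2 / cc, 0, by field_simp; ring⟩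
    obtain ⟨Y, hY, y1, y2, y3⟩ := exists_unitri (K := K) s1 0 s2
    obtain ⟨s, rfl⟩ := hsurj Y hY
    have h : c (s * ⟨x, hx⟩) = c (⟨x, hx⟩ * ⟨z, hz.1⟩ * s) := by
      rw [hmul, hmul, hmul]
      obtain ⟨a1, a2, a3⟩ := unitri_mul_apply (hmem ⟨x, hx⟩) (hmem ⟨z, hz.1⟩)
      obtain ⟨b1, b2, b3⟩ := unitri_mul_apply (mul_mem (hmem ⟨x, hx⟩) (hmem ⟨z, hz.1⟩)) (hmem s)
      obtain ⟨d1, d2, d3⟩ := unitri_mul_apply (hmem s) (hmem ⟨x, hx⟩)
      refine unitri_ext (mul_mem (hmem _) (hmem _))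
        (mul_mem (mul_mem (hmem _) (hmem _)) (hmem _)) ?_ ?_ ?_
      · rw [d1, b1, a1, hz1, y1]; ring
      · rw [d2, b2, a2, hz2, y2]; ring
      · rw [d3, b3, a3, a1, hz1, hz2, y1, y2, y3, ← ha, ← hcc]
        linear_combination hs12
    have h' : (s : Ω) * x = x * z * s := congrArg Subtype.val (hinj h)
    exact ⟨s, s.2, by rw [h']; group⟩

end CfsgLib.SylowLie
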