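import Cfsg.Agent.Lib.Fusion.System.Model
import Cfsg.Agent.Lib.Fusion.System.Normal
import Cfsg.Agent.Lib.Fusion.System.Puig
import Cfsg.Agent.Lib.Fusion.System.Centric
import Cfsg.Agent.Lib.Fusion.System.TopCriterion

/-!
# Criteria for a system with nontrivial core to be constrained

A normal subgroup with commutative centralizer gives a normal centric subgroup; centric radical
subgroups contain every element stabilizing an invariant chain; a normalizer acting in two layers
on a fully normalized subgroup is excluded by a normal subgroup in the lower layer.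
-/

set_option autoImplicit false
set_option linter.style.haveILetI false
set_option maxHeartbeats 800000

open Subgroup
open scoped Classical commutatorElement Pointwise

namespace CfsgLib.SylowLie

open CfsgLib.Fusion

open Cfsg (FusionSystem autInducedBy)
open Cfsg.FusionSystem (normalizerIn centralizerIn)

universe u

section Realizable

variable {Ω : Type u} [Group Ω] {S : Subgroup Ω} [Finite S] {F : FusionSystem S} {Q : Subgroup Ω}
  {p : ℕ} [Fact p.Prime]

theorem isRealizable_of_normal_centric (hS : IsPGroup p S) (hF : F.IsSaturated p)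
    (hQ : F.IsNormal Q) (hc : F.IsCentric Q) : F.IsRealizable p := by
  obtain ⟨L, hL, ι, hfin, hreal, hsyl, -⟩ := exists_model_of_normal_centric hS hF hQ hc
  exact ⟨L, hL, hfin, ι, hreal, hsyl⟩

theorem isCentric_of_isNormal (hQ : F.IsNormal Q) (h : centralizerIn S Q ≤ Q) :
    F.IsCentric Q := by
  refine ⟨hQ.1, fun R hR => ?_⟩
  obtain ⟨f, hf, rfl⟩ := isConj_iff.1 hR
  have e : img Q f = Q := img_eq_of_map_le hQ.1 hf le_rfl fun x hx =>
    (stronglyClosed_iff.1 (stronglyClosed_of_isNormal hQ)).2 Q f le_rfl hf x hx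
  rw [e]
  exact h

/-- If the centralizer of a normal subgroup `Q` is commutative, `Q C_S(Q)` is normal and centric. -/
theorem isRealizable_of_normal_abelian_centralizer (hS : IsPGroup p S) (hF : F.IsSaturated p)
    (hQ : F.IsNormal Q)
    (hab : ∀ x ∈ centralizerIn S Q, ∀ y ∈ centralizerIn S Q, Commute x y) :
    F.IsRealizable p := by
  set C := centralizerIn S Q with hC
  set T := Q ⊔ C with hT
  have hQsc := stronglyClosed_of_isNormal hQ
  have hTsc : F.StronglyClosed T := stronglyClosed_sup_centralizer hS hF hQsc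
  have hdec : ∀ a ∈ T, ∃ c ∈ C, ∃ q ∈ Q, a = c * q := by
    intro a ha
    have h1 : a ∈ ((C : Set Ω) * (Q : Set Ω)) := by
      rw [← Subgroup.coe_mul_of_left_le_normalizer_right C Q
        (inf_le_right.trans (Subgroup.centralizer_le_normalizer _))]
      rw [hT, sup_comm] at ha
      exact ha
    obtain ⟨c, hc, q, hq, rfl⟩ := Set.mem_mul.1 h1
    exact ⟨c, hc, q, hq, rfl⟩
  have hcent : ∀ c ∈ C, ∀ a ∈ T, Commute c a := by
    intro c hc a ha
    obtain ⟨c', hc', q, hq, rfl⟩ := hdec a ha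
    exact (hab c hc c' hc').mul_right (Subgroup.mem_centralizer_iff.1 hc.2 q hq).symm
  obtain ⟨n, Qs, h0, hlast, hmono, hi⟩ :=
    exists_series_of_autExtends hS hQ.1 (autExtends_of_isNormal hQ)
  have hQsQ : ∀ i, Qs i ≤ Q := fun i => hlast ▸ hmono (Fin.le_last i)
  have hcomm : ∀ a ∈ T, ∀ b ∈ T, ∃ q ∈ Q, ∃ r ∈ Q, (⁅a, b⁆ = ⁅q, r⁆) ∧
      (b ∈ Q → r = b) := by
    intro a ha b hb
    obtain ⟨c, hc, q, hq, rfl⟩ := hdec a ha
    obtain ⟨c', hc', r, hr, hbe⟩ := hdec b hb
    have key : ∀ x ∈ T, ⁅c * q, x⁆ = ⁅q, x⁆ := fun x hx => by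
      have e1 : q * x * q⁻¹ * x⁻¹ ∈ T :=
        mul_mem (mul_mem (mul_mem (Subgroup.mem_sup_left hq) hx)
          (inv_mem (Subgroup.mem_sup_left hq))) (inv_mem hx)
      have h1 := (hcent c hc _ e1).eq
      have h2 := (hcent c hc x hx).eq
      calc ⁅c * q, x⁆ = c * (q * x * q⁻¹ * x⁻¹) * (x * c⁻¹ * x⁻¹) := by
            rw [commutatorElement_def]; group
        _ = (q * x * q⁻¹ * x⁻¹) * c * (x * c⁻¹ * x⁻¹) := by rw [h1]
        _ = (q * x * q⁻¹ * x⁻¹) * (c * x) * c⁻¹ * x⁻¹ := by group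
        _ = (q * x * q⁻¹ * x⁻¹) * (x * c) * c⁻¹ * x⁻¹ := by rw [h2]
        _ = ⁅q, x⁆ := by rw [commutatorElement_def]; group
    by_cases hbQ : b ∈ Q
    · exact ⟨q, hq, b, hbQ, key b hb, fun _ => rfl⟩
    · refine ⟨q, hq, r, hr, ?_, fun h => absurd h hbQ⟩
      rw [key b hb, hbe]
      have hcq : Commute q c' := (hcent c' hc' q (Subgroup.mem_sup_left hq)).symm
      calc ⁅q, c' * r⁆ = q * c' * r * q⁻¹ * r⁻¹ * c'⁻¹ := by rw [commutatorElement_def]; group
        _ = c' * q * r * q⁻¹ * r⁻¹ * c'⁻¹ := by rw [hcq.eq]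
        _ = c' * ⁅q, r⁆ * c'⁻¹ := by rw [commutatorElement_def]; group
        _ = ⁅q, r⁆ := by
          rw [commutatorElement_def, (hcent c' hc' _ (Subgroup.mem_sup_left
            (mul_mem (mul_mem (mul_mem hq hr) (inv_mem hq)) (inv_mem hr)))).eq, mul_inv_cancel_right]
  have hTn : F.IsNormal T := by
    refine isNormal_of_series hS hF (n := n + 1) (Qs := Fin.snoc Qs T) ?_ (Fin.snoc_last _ _) ?_
      (fun i => ?_) (fun i => ?_)
    · rw [← Fin.castSucc_zero, Fin.snoc_castSucc, h0]
    · intro i j hij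
      induction j using Fin.lastCases with
      | last =>
        induction i using Fin.lastCases with
        | last => exact le_rfl
        | cast i =>
          rw [Fin.snoc_last, Fin.snoc_castSucc]
          exact (hQsQ i).trans le_sup_left
      | cast j =>
        induction i using Fin.lastCases with
        | last => exact absurd hij (not_le.2 (Fin.castSucc_lt_last j))
        | cast i =>
          rw [Fin.snoc_castSucc, Fin.snoc_castSucc]
          exact hmono (Fin.castSucc_le_castSucc_iff.1 hij)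
    · induction i using Fin.lastCases with
      | last => rw [Fin.succ_last, Fin.snoc_last]; exact hTsc
      | cast i => rw [Fin.succ_castSucc, Fin.snoc_castSucc]; exact (hi i).1
    · refine Subgroup.commutator_le.2 fun a ha b hb => ?_
      induction i using Fin.lastCases with
      | last =>
        rw [Fin.succ_last, Fin.snoc_last] at hb
        rw [Fin.snoc_castSucc, hlast]
        obtain ⟨q, hq, r, hr, e, -⟩ := hcomm a ha b hb
        rw [e, commutatorElement_def]
        exact mul_mem (mul_mem (mul_mem hq hr) (inv_mem hq)) (inv_mem hr)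
      | cast i =>
        rw [Fin.succ_castSucc, Fin.snoc_castSucc] at hb
        rw [Fin.snoc_castSucc]
        obtain ⟨q, hq, r, -, e, hrb⟩ := hcomm a ha b (Subgroup.mem_sup_left (hQsQ _ hb))
        rw [e, hrb (hQsQ _ hb)]
        exact (hi i).2 (Subgroup.commutator_mem_commutator hq hb)
  refine isRealizable_of_normal_centric hS hF hTn (isCentric_of_isNormal hTn fun x hx => ?_)
  exact Subgroup.mem_sup_right ⟨hx.1, Subgroup.centralizer_le (fun y hy => Subgroup.mem_sup_left hy) hx.2⟩

end Realizable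

variable {Ω : Type*} [Group Ω] {S : Subgroup Ω} [Finite S] {F : FusionSystem S}
  {P Q : Subgroup Ω} {p : ℕ} [Fact p.Prime]

theorem isInvariant_of_char (hP : P ≤ S) {U : Subgroup Ω} (hUP : U ≤ P)
    (hU : (U.subgroupOf P).Characteristic) :
    ∀ a ∈ F.autGroup P, ∀ x ∈ U, autFun a x ∈ U := by
  intro a _ x hx
  rw [autFun_apply a (hUP hx)]
  exact (SetLike.ext_iff.1 (hU.fixed a) ⟨x, hUP hx⟩).2 hx

/-- A centric radical subgroup contains every element of its normalizer stabilizing an invariant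
chain. -/
theorem mem_of_stab_chain (hS : IsPGroup p S) (hc : F.IsCentric P) (hr : F.IsRadical p P)
    {n : ℕ} {Ws : Fin (n + 1) → Subgroup Ω} (h0 : Ws 0 = ⊥) (hlast : Ws (Fin.last n) = P)
    (hmono : Monotone Ws)
    (hinv : ∀ j, ∀ a ∈ F.autGroup P, ∀ x ∈ Ws j, autFun a x ∈ Ws j)
    {s : Ω} (hsS : s ∈ S) (hsN : s ∈ Subgroup.normalizer (P : Set Ω))
    (hs : ∀ j : Fin n, ∀ x ∈ Ws j.succ, x⁻¹ * (s * x * s⁻¹) ∈ Ws j.castSucc) : s ∈ P := by
  have hP := hc.1
  obtain ⟨m, hm⟩ := IsPGroup.iff_card.1 hS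
  have hle : ∀ j, Ws j ≤ P := fun j => hlast ▸ hmono (Fin.le_last j)
  let K : Subgroup (F.autGroup P) := ⨅ j : Fin n, relStab (F.autGroup P) (Ws j.succ)
    (Ws j.castSucc) (hinv _) (hle _) (hle _) (hinv _)
  have hKn : K.Normal := Subgroup.normal_iInf_normal fun j => relStab_normal
  have hKp : IsPGroup p K := by
    intro a
    have ha := fun j => Subgroup.mem_iInf.1 a.2 j
    have key : ∀ j : Fin (n + 1), ∃ k : ℕ, ∀ x ∈ Ws j,
        autFun (((a : F.autGroup P) : MulAut P) ^ p ^ k) x = x := by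
      intro j
      induction j using Fin.induction with
      | zero =>
        refine ⟨0, fun x hx => ?_⟩
        have : x = 1 := Subgroup.mem_bot.1 (h0 ▸ hx)
        subst this
        exact autFun_map_one _
      | succ j ih =>
        obtain ⟨k, hk⟩ := ih
        refine ⟨k + m, fun x hx => ?_⟩
        rw [pow_add, pow_mul]
        refine pow_fix_step hP hm (hle _) (hle _) hk (fun y hy => ?_) x hx
        have h1 := mem_relStab.1 (pow_mem (ha j) (p ^ k)) y hy
        rwa [Subgroup.coe_pow] at h1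
    obtain ⟨k, hk⟩ := key (Fin.last n)
    refine ⟨k, Subtype.ext (Subtype.ext (autFun_ext fun x hx => ?_))⟩
    simp only [Subgroup.coe_pow, Subgroup.coe_one]
    rw [autFun_one hx]
    exact hk x (by rwa [hlast])
  have hm' : conjAut s hsN ∈ F.autGroup P := autInducedBy_le_autGroup hP (conjAut_mem hsS hsN)
  have h1 : (⟨_, hm'⟩ : F.autGroup P) ∈ Cfsg.pCore p (F.autGroup P) := by
    refine CfsgLib.Coprime.le_pCore (hN := hKn) hKp (Subgroup.mem_iInf.2 fun j => ?_)
    rw [mem_relStab]
    intro x hx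
    show x⁻¹ * autFun (conjAut s hsN) x ∈ Ws j.castSucc
    rw [autFun_conjAut hsN (hle _ hx)]
    exact hs j x hx
  exact mem_of_conjAut_mem_inn hsS hsN hP (centralizerIn_le_of_isCentric hc) (hr.2 ▸ ⟨_, h1, rfl⟩)

/-- The two-layer case. -/
theorem normalizerIn_le_of_two_layer (hS : IsPGroup p S) (hF : F.IsSaturated p)
    (hQ : F.IsNormal Q) (hn : F.IsFullyNormalized P) (hc : F.IsCentric P) (hr : F.IsRadical p P)
    {Z : Subgroup Ω} (hQZ : Q ≤ Z) (hZP : Z ≤ P)
    (hfix : ∀ s ∈ normalizerIn S P, ∀ z ∈ Z, s * z * s⁻¹ = z)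
    (hstab : ∀ s ∈ normalizerIn S P, ∀ x ∈ P, x⁻¹ * (s * x * s⁻¹) ∈ Z)
    (hmove : ∀ x ∈ P, x ∉ Z → ∃ s ∈ normalizerIn S P,
      x⁻¹ * (s * x * s⁻¹) ∈ Q ∧ x⁻¹ * (s * x * s⁻¹) ≠ 1) :
    normalizerIn S P ≤ P := by
  have hPS := hc.1
  haveI := finite_of_le hPS
  haveI := finite_mulAut (P := P)
  haveI := finite_of_le hQ.1
  by_cases hinvZ : ∀ a ∈ F.autGroup P, ∀ z ∈ Z, autFun a z ∈ Z
  · intro s hs
    refine mem_of_stab_chain hS hc hr (n := 2) (Ws := ![⊥, Z, P]) rfl rfl ?_ ?_ hs.1 hs.2 ?_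
    · exact Fin.monotone_iff_le_succ.2 fun i => by fin_cases i <;> simp [hZP]
    · intro j a ha
      fin_cases j
      · intro x hx
        have hx1 : x = 1 := Subgroup.mem_bot.1 hx
        subst hx1
        exact Subgroup.mem_bot.2 (autFun_map_one a)
      · exact hinvZ a ha
      · exact fun x hx => autFun_mem a hx
    · intro j
      fin_cases j
      · intro x hx
        show x⁻¹ * (s * x * s⁻¹) ∈ (⊥ : Subgroup Ω)
        rw [Subgroup.mem_bot, hfix s hs x hx, inv_mul_cancel]
      · exact hstab s hs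
  push Not at hinvZ
  obtain ⟨α, hα, z₀, hz₀, hx⟩ := hinvZ
  exfalso
  set x := autFun α z₀ with hxdef
  have hxP : x ∈ P := autFun_mem α (hZP hz₀)
  obtain ⟨s, hs, hsQ, hs1⟩ := hmove x hxP hx
  have hQP : Q ≤ P := hQZ.trans hZP
  have hsc := stronglyClosed_of_isNormal hQ
  have hQinv : ∀ a ∈ F.autGroup P, ∀ q ∈ Q, autFun a q ∈ Q := fun a ha q hq =>
    (autInvariant_of_stronglyClosed hsc hPS ha ⟨hQP hq, hq⟩).2
  -- the stabilizer of the coset, mapped to `Q`
  let L : Subgroup (F.autGroup P) :=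
    { carrier := {a | (∀ q ∈ Q, autFun (a : MulAut P) q = q) ∧ x⁻¹ * autFun (a : MulAut P) x ∈ Q}
      one_mem' := ⟨fun q hq => autFun_one (hQP hq), by
        rw [Subgroup.coe_one, autFun_one hxP, inv_mul_cancel]; exact one_mem Q⟩
      mul_mem' := fun {a b} ha hb => by
        refine ⟨fun q hq => ?_, ?_⟩
        · rw [Subgroup.coe_mul, autFun_mul _ _ (hQP hq), hb.1 q hq, ha.1 q hq]
        · rw [Subgroup.coe_mul, autFun_mul _ _ hxP]
          have e : autFun (b : MulAut P) x = x * (x⁻¹ * autFun (b : MulAut P) x) :=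
            (mul_inv_cancel_left _ _).symm
          rw [e, autFun_map_mul _ hxP (hQP hb.2), ha.1 _ hb.2, ← mul_assoc]
          exact mul_mem ha.2 hb.2
      inv_mem' := fun {a} ha => by
        have h1 : ∀ q ∈ Q, autFun ((a⁻¹ : F.autGroup P) : MulAut P) q = q := fun q hq => by
          conv_lhs => rw [← ha.1 q hq]
          rw [← autFun_mul _ _ (hQP hq), Subgroup.coe_inv, inv_mul_cancel, autFun_one (hQP hq)]
        refine ⟨h1, ?_⟩
        have e := autFun_map_mul ((a⁻¹ : F.autGroup P) : MulAut P) hxP (hQP ha.2)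
        rw [mul_inv_cancel_left, ← autFun_mul _ _ hxP, Subgroup.coe_inv, inv_mul_cancel,
          autFun_one hxP, ← Subgroup.coe_inv, h1 _ ha.2] at e
        have h2 : autFun ((a⁻¹ : F.autGroup P) : MulAut P) x = x * (x⁻¹ * autFun (a : MulAut P) x)⁻¹ :=
          eq_mul_inv_of_mul_eq e.symm
        rw [h2, inv_mul_cancel_left]
        exact inv_mem ha.2 }
  let ψ : L →* Q :=
    { toFun := fun a => ⟨x⁻¹ * autFun ((a : F.autGroup P) : MulAut P) x, a.2.2⟩
      map_one' := Subtype.ext (by
        show x⁻¹ * autFun (1 : MulAut P) x = 1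
        rw [autFun_one hxP, inv_mul_cancel])
      map_mul' := fun a b => Subtype.ext (by
        show x⁻¹ * autFun (((a : F.autGroup P) : MulAut P) * ((b : F.autGroup P) : MulAut P)) x =
          x⁻¹ * autFun ((a : F.autGroup P) : MulAut P) x * (x⁻¹ * autFun ((b : F.autGroup P) : MulAut P) x)
        rw [autFun_mul _ _ hxP]
        have e : autFun ((b : F.autGroup P) : MulAut P) x =
            x * (x⁻¹ * autFun ((b : F.autGroup P) : MulAut P) x) := (mul_inv_cancel_left _ _).symm
        conv_lhs => rw [e, autFun_map_mul _ hxP (hQP b.2.2), a.2.1 _ b.2.2]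
        rw [mul_assoc]) }
  -- a conjugate of the induced Sylow subgroup lies in the kernel
  obtain ⟨R, hR⟩ := (IsSaturated.automized_receptive hS hF hn).1.2
  set g : F.autGroup P := ⟨α, hα⟩
  set R' : Sylow p (F.autGroup P) := g • R
  have hR' : (R' : Subgroup (F.autGroup P)) ≤ (ψ.ker).map L.subtype := by
    intro a ha
    rw [Sylow.coe_subgroup_smul, Subgroup.mem_pointwise_smul_iff_inv_smul_mem] at ha
    have hb : ((g⁻¹ * a * g : F.autGroup P) : MulAut P) ∈ autInducedBy S P := by
      have : (g⁻¹ * a * g : F.autGroup P) ∈ (R : Subgroup (F.autGroup P)) := by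
        simpa [MulAut.conj_apply, MulDistribMulAction.toMulAut, MulAut.smul_def] using ha
      rwa [hR] at this
    obtain ⟨t, htS, hte⟩ := mem_autInducedBy_iff.1 hb
    have htN : t ∈ normalizerIn S P := ⟨htS, mem_normalizer_of_autFun hte⟩
    have hfixa : ∀ z ∈ Z, autFun (a : MulAut P) (autFun α z) = autFun α z := fun z hz => by
      have h1 : autFun ((g⁻¹ * a * g : F.autGroup P) : MulAut P) z = z := by
        rw [hte z (hZP hz), hfix t htN z hz]
      have h2 : ((a * g : F.autGroup P) : MulAut P) =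
          ((g : F.autGroup P) : MulAut P) * ((g⁻¹ * a * g : F.autGroup P) : MulAut P) := by
        rw [← Subgroup.coe_mul]
        congr 1
        group
      rw [← autFun_mul _ _ (hZP hz), show (a : MulAut P) * α = ((a * g : F.autGroup P) : MulAut P)
        from rfl, h2, autFun_mul _ _ (hZP hz), h1]
    have haQ : ∀ q ∈ Q, autFun (a : MulAut P) q = q := fun q hq => by
      have hq' := hQinv _ (inv_mem hα) q hq
      have e : autFun α (autFun α⁻¹ q) = q := by
        rw [← autFun_mul _ _ (hQP hq), mul_inv_cancel, autFun_one (hQP hq)]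
      have := hfixa _ (hQZ hq')
      rwa [e] at this
    have hax : x⁻¹ * autFun (a : MulAut P) x = 1 := by
      rw [hxdef, hfixa _ hz₀, inv_mul_cancel]
    exact ⟨⟨a, haQ, hax ▸ one_mem Q⟩, Subtype.ext hax, rfl⟩
  have hdvd : ¬ p ∣ ψ.ker.index := fun h => by
    refine R'.not_dvd_index ((h.trans ?_).trans (Subgroup.index_dvd_of_le hR'))
    rw [Subgroup.index_map_subtype]
    exact dvd_mul_right _ _
  rw [Subgroup.index_ker] at hdvd
  obtain ⟨k, hk⟩ := IsPGroup.iff_card.1 ((hS.to_le hQ.1).to_subgroup ψ.range)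
  have htriv : ψ.range = ⊥ := by
    rw [← Subgroup.card_eq_one, hk]
    rcases Nat.eq_zero_or_pos k with rfl | hk0
    · simp
    · exact absurd (hk ▸ dvd_pow_self p (Nat.pos_iff_ne_zero.1 hk0)) hdvd
  have hsm : conjAut s hs.2 ∈ F.autGroup P := autInducedBy_le_autGroup hPS (conjAut_mem hs.1 hs.2)
  have hsL : (⟨_, hsm⟩ : F.autGroup P) ∈ L := by
    refine ⟨fun q hq => ?_, ?_⟩
    · rw [show ((⟨_, hsm⟩ : F.autGroup P) : MulAut P) = conjAut s hs.2 from rfl,
        autFun_conjAut hs.2 (hQP hq)]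
      exact hfix s hs q (hQZ hq)
    · rw [show ((⟨_, hsm⟩ : F.autGroup P) : MulAut P) = conjAut s hs.2 from rfl,
        autFun_conjAut hs.2 hxP]
      exact hsQ
  have h1 : ψ ⟨_, hsL⟩ ∈ ψ.range := ⟨_, rfl⟩
  rw [htriv, Subgroup.mem_bot] at h1
  exact hs1 ((autFun_conjAut hs.2 hxP) ▸ congrArg Subtype.val h1)

end CfsgLib.SylowLie
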