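import Mathlib
import Cfsg.Agent.Lib.AutPSL.Sylow
import Cfsg.Agent.Lib.Char.FlagCosets

/-!
# Opposite pairs of Sylow 2-subgroups of `SL(n, 2)`

The unitriangular group is self-normalizing, and any Sylow subgroup meeting it trivially is a conjugate,
under it, of the lower unitriangular group.
-/

set_option autoImplicit false
set_option linter.all false

namespace CfsgLib.SylowLie.FlagPairsTwo

open Matrix CfsgLib.AutPSL CfsgLib.Char.FlagCosets

variable {n : ℕ}

abbrev SLTwo (n : ℕ) := Matrix.SpecialLinearGroup (Fin n) (ZMod 2)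

theorem eq_one_of_ne_zero {a : ZMod 2} (h : a ≠ 0) : a = 1 := by revert h a; decide

/-- every invertible matrix over the field of two elements has determinant one -/
def toSL : GL (Fin n) (ZMod 2) →* SLTwo n where
  toFun g := ⟨g.1, eq_one_of_ne_zero ((Matrix.isUnit_iff_isUnit_det _).1 g.isUnit).ne_zero⟩
  map_one' := Subtype.ext rfl
  map_mul' _ _ := Subtype.ext rfl

theorem mem_unitri_of_upper {A : SLTwo n} (h : BlockTriangular A.1 id) : A ∈ unitri := by
  refine mem_unitri.2 ⟨h, fun i => eq_one_of_ne_zero fun h0 => ?_⟩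
  have h1 := A.2
  rw [Matrix.det_of_upperTriangular h] at h1
  have h2 : (∏ k, A.1 k k) = 0 := Finset.prod_eq_zero (Finset.mem_univ i) h0
  exact zero_ne_one (h2.symm.trans h1)

/-- a permutation matrix -/
def pm (σ : Equiv.Perm (Fin n)) : SLTwo n := toSL (permGL (ZMod 2) σ)

theorem conj_pm_apply (σ : Equiv.Perm (Fin n)) (A : SLTwo n) (i j : Fin n) :
    (pm σ * A * (pm σ)⁻¹).1 i j = A.1 (σ.symm i) (σ.symm j) := by
  rw [show (pm σ)⁻¹ = pm σ⁻¹ by rw [pm, pm, ← map_inv, ← map_inv], Matrix.SpecialLinearGroup.coe_mul,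
    Matrix.SpecialLinearGroup.coe_mul, Matrix.mul_apply, Finset.sum_eq_single (σ.symm j)]
  · rw [Matrix.mul_apply, Finset.sum_eq_single (σ.symm i)]
    · show (if i = σ (σ.symm i) then (1 : ZMod 2) else 0) * A.1 (σ.symm i) (σ.symm j) *
        (if σ.symm j = σ⁻¹ j then (1 : ZMod 2) else 0) = _
      rw [if_pos (by simp : i = σ (σ.symm i)), if_pos (show σ.symm j = σ⁻¹ j from rfl), one_mul, mul_one]
    · intro b _ hb
      show (if i = σ b then (1 : ZMod 2) else 0) * _ = 0
      rw [if_neg fun h => hb (by simp [h]), zero_mul]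
    · exact fun h => absurd (Finset.mem_univ _) h
  · intro b _ hb
    show _ * (if b = σ⁻¹ j then (1 : ZMod 2) else 0) = 0
    rw [if_neg (show ¬ b = σ⁻¹ j from hb), mul_zero]
  · exact fun h => absurd (Finset.mem_univ _) h

/-- the longest permutation -/
def w0 (n : ℕ) : SLTwo n := pm Fin.revPerm

theorem opposite_inf {A : SLTwo n} (hA : A ∈ unitri) (hA' : (w0 n)⁻¹ * A * w0 n ∈ unitri) : A = 1 := by
  set C := (w0 n)⁻¹ * A * w0 n with hC
  have e : A = pm Fin.revPerm * C * (pm Fin.revPerm)⁻¹ := by rw [hC, w0]; group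
  refine Matrix.SpecialLinearGroup.ext _ _ fun i j => ?_
  show A.1 i j = (1 : Matrix (Fin n) (Fin n) (ZMod 2)) i j
  rcases lt_trichotomy i j with h | rfl | h
  · rw [Matrix.one_apply_ne h.ne, e, conj_pm_apply]
    exact (mem_unitri.1 hA').1 (show id (Fin.revPerm.symm j) < id (Fin.revPerm.symm i) by simpa using h)
  · rw [Matrix.one_apply_eq, (mem_unitri.1 hA).2]
  · rw [Matrix.one_apply_ne h.ne']
    exact (mem_unitri.1 hA).1 h

/-- a subgroup meeting the unitriangular group trivially in a conjugate is opposite -/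
theorem exists_opposite {g : SLTwo n} (h : ∀ A, A ∈ unitri → g⁻¹ * A * g ∈ unitri → A = 1) :
    ∃ b ∈ (unitri : Subgroup (SLTwo n)), ∃ c ∈ (unitri : Subgroup (SLTwo n)), g = b * w0 n * c := by
  obtain ⟨b, c, σ, hb, hc, he⟩ := exists_bruhat (F := ZMod 2) (Matrix.SpecialLinearGroup.toGL g)
  have he' : g = toSL b * pm σ * toSL c := by
    rw [pm, ← map_mul, ← map_mul, ← he]
    exact Subtype.ext rfl
  have hbU : toSL b ∈ (unitri : Subgroup (SLTwo n)) := mem_unitri_of_upper hb
  have hcU : toSL c ∈ (unitri : Subgroup (SLTwo n)) := mem_unitri_of_upper hc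
  refine ⟨toSL b, hbU, toSL c, hcU, ?_⟩
  suffices hσ : ∀ i j : Fin n, i < j → σ.symm j < σ.symm i by
    have hσ' : σ = Fin.revPerm := by
      have hm : StrictMono fun i => Fin.rev (σ.symm i) := fun i j hij => Fin.rev_lt_rev.2 (hσ i j hij)
      have hid : ∀ i, Fin.rev (σ.symm i) = i := fun i => by
        have := StrictMono.range_inj (f := fun i => Fin.rev (σ.symm i)) (g := id) hm strictMono_id
        have h2 := this.1 (by
          rw [Set.range_id]
          exact Set.range_eq_univ.2 ((Fin.rev_bijective.comp σ.symm.bijective).surjective))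
        exact congrFun h2 i
      have h' : ∀ i, σ.symm i = Fin.rev i := fun i => by
        have := congrArg Fin.rev (hid i); simpa using this
      refine Equiv.ext fun i => ?_
      have := congrArg σ (h' (Fin.rev i))
      simpa using this.symm
    rw [w0, ← hσ']
    exact he'
  intro i j hij
  by_contra hle
  have hlt : σ.symm i < σ.symm j :=
    lt_of_le_of_ne (not_lt.1 hle) fun e => hij.ne (σ.symm.injective e)
  set A := tv ((1 : ZMod 2) • (ev i : Fin n → ZMod 2)) (ev j) (by rw [dotProduct_smul, ev_dot hij.ne, smul_zero]) with hA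
  have hAU : A ∈ (unitri : Subgroup (SLTwo n)) := tv_mem_unitri hij 1
  set D := (pm σ)⁻¹ * A * pm σ with hD
  have hDU : D ∈ (unitri : Subgroup (SLTwo n)) := by
    refine mem_unitri_of_upper fun a b hba => ?_
    have e : A.1 (σ a) (σ b) = D.1 a b := by
      have e1 : A = pm σ * D * (pm σ)⁻¹ := by rw [hD]; group
      rw [e1, conj_pm_apply]; simp
    rw [← e, hA, tv_val, rk1, one_smul, vecMulVec_ev]
    change b < a at hba
    rw [Matrix.add_apply, Matrix.one_apply_ne (σ.injective.ne hba.ne'), Matrix.single_apply, if_neg, add_zero]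
    rintro ⟨rfl, rfl⟩
    simp only [Equiv.symm_apply_apply] at hlt
    exact lt_asymm hlt hba
  have h1 := h (toSL b * A * (toSL b)⁻¹) (mul_mem (mul_mem hbU hAU) (inv_mem hbU)) (by
    rw [show g⁻¹ * (toSL b * A * (toSL b)⁻¹) * g = (toSL c)⁻¹ * D * toSL c by rw [he', hD]; group]
    exact mul_mem (mul_mem (inv_mem hcU) hDU) hcU)
  rw [mul_inv_eq_one, mul_eq_left] at h1
  have h2 := congrArg (fun M : SLTwo n => M.1 i j) h1
  rw [hA] at h2
  simp [tv_val, rk1, one_smul, vecMulVec_ev, hij.ne] at h2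

theorem isPGroup_unitri [NeZero n] : IsPGroup 2 (unitri : Subgroup (SLTwo n)) :=
  fun A => ⟨n, Subtype.ext (unitri_pow_eq_one (p := 2) A.2)⟩

theorem mem_unitri_of_normalizes {g : SLTwo n} (h : g ∈ Subgroup.normalizer ((unitri : Subgroup (SLTwo n)) : Set (SLTwo n))) :
    g ∈ (unitri : Subgroup (SLTwo n)) :=
  mem_unitri_of_upper (upper_of_normalizes fun u hu => (Subgroup.mem_set_normalizer_iff.1 h u).1 hu)

/-- the unitriangular group as a Sylow subgroup -/
def sylowUT [NeZero n] : Sylow 2 (SLTwo n) where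
  toSubgroup := unitri
  isPGroup' := isPGroup_unitri
  is_maximal' := by
    intro Q hQ hle
    by_contra hne
    haveI := hQ.isNilpotent
    have hlt : (unitri : Subgroup (SLTwo n)).subgroupOf Q < ⊤ := lt_top_iff_ne_top.2 fun e =>
      hne (le_antisymm (Subgroup.subgroupOf_eq_top.1 e) hle)
    have hN := Group.normalizerCondition_of_isNilpotent (G := Q) _ hlt
    obtain ⟨x, hx, hxU⟩ := SetLike.exists_of_lt hN
    refine hxU (mem_unitri_of_normalizes ?_)
    refine Subgroup.mem_normalizer_iff_map_conj_eq.2 (Subgroup.eq_of_le_of_card_ge ?_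
      (le_of_eq (Subgroup.card_map_of_injective (MulEquiv.injective _)).symm))
    rintro _ ⟨u, hu, rfl⟩
    exact (Subgroup.mem_set_normalizer_iff.1 hx ⟨u, hle hu⟩).1 hu

end CfsgLib.SylowLie.FlagPairsTwo
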