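import Cfsg.Agent.Lib.SylowLie.Criteria

/-!
# Systems over groups of class two with commutative centralizers and full commutator maps
-/

set_option autoImplicit false

open Subgroup
open scoped Classical commutatorElement Pointwise

namespace CfsgLib.SylowLie

open CfsgLib.Fusion

open Cfsg (FusionSystem)
open Cfsg.FusionSystem (normalizerIn centralizerIn)

universe u

variable {Ω : Type u} [Group Ω] {S : Subgroup Ω} [Finite S] {F : FusionSystem S} {Q : Subgroup Ω}
  {p : ℕ} [Fact p.Prime]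

theorem isRealizable_of_normal_not_central (hS : IsPGroup p S) (hF : F.IsSaturated p)
    (hCA : ∀ x ∈ S, x ∉ centralizerIn S S → ∀ y ∈ S, ∀ z ∈ S, Commute x y → Commute x z →
      Commute y z)
    (hQ : F.IsNormal Q) (hne : ¬ Q ≤ centralizerIn S S) : F.IsRealizable p := by
  obtain ⟨x, hxQ, hx⟩ := SetLike.not_le_iff_exists.1 hne
  refine isRealizable_of_normal_abelian_centralizer hS hF hQ fun y hy z hz =>
    hCA x (hQ.1 hxQ) hx y hy.1 z hz.1 ?_ ?_
  · exact Subgroup.mem_centralizer_iff.1 hy.2 x hxQ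
  · exact Subgroup.mem_centralizer_iff.1 hz.2 x hxQ

theorem isRealizable_of_heisenberg (hS : IsPGroup p S) (hF : F.IsSaturated p)
    (hCA : ∀ x ∈ S, x ∉ centralizerIn S S → ∀ y ∈ S, ∀ z ∈ S, Commute x y → Commute x z →
      Commute y z)
    (hC2 : ∀ x ∈ S, ∀ s ∈ S, x⁻¹ * (s * x * s⁻¹) ∈ centralizerIn S S)
    (hfull : ∀ x ∈ S, x ∉ centralizerIn S S → ∀ z ∈ centralizerIn S S,
      ∃ s ∈ S, x⁻¹ * (s * x * s⁻¹) = z)
    (hcore : F.core ≠ ⊥) : F.IsRealizable p := by
  have hQ : F.IsNormal F.core := isNormal_core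
  by_cases hne : F.core ≤ centralizerIn S S
  swap
  · exact isRealizable_of_normal_not_central hS hF hCA hQ hne
  obtain ⟨u, huQ, hu⟩ : ∃ u ∈ F.core, u ≠ 1 := by
    obtain ⟨u, hu⟩ := (F.core.ne_bot_iff_exists_ne_one).1 hcore
    exact ⟨u, u.2, fun h => hu (Subtype.ext h)⟩
  have hSn : F.IsNormal S := by
    refine isNormal_of_stronglyClosed_le hS hF (stronglyClosed_iff.2 ⟨le_rfl, fun R f _ hf x hx => hf.mem_S hx⟩) fun P hP => ?_
    obtain ⟨hc, hr⟩ := isEssential_centric_radical hS hP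
    have hZP : centralizerIn S S ≤ P := fun z hz =>
      centralizerIn_le_of_isCentric hc ⟨hz.1, Subgroup.centralizer_le hc.1 hz.2⟩
    have hN : S ≤ normalizerIn S P := by
      refine fun s hs => ⟨hs, Subgroup.mem_normalizer_iff.2 fun x => ⟨fun hx => ?_, fun hx => ?_⟩⟩
      · have h := mul_mem hx (hZP (hC2 x (hc.1 hx) s hs))
        rwa [mul_inv_cancel_left] at h
      · have h := mul_mem hx (hZP (hC2 _ (hc.1 hx) s⁻¹ (S.inv_mem hs)))
        rw [mul_inv_cancel_left] at h
        simpa [mul_assoc] using h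
    refine hN.trans (normalizerIn_le_of_two_layer hS hF hQ hP.2.1 hc hr hne hZP ?_ ?_ ?_)
    · intro s hs z hz
      rw [← (Subgroup.mem_centralizer_iff.1 hz.2 s hs.1 : s * z = z * s).symm, mul_inv_cancel_right]
    · exact fun s hs x hx => hC2 x (hc.1 hx) s hs.1
    · intro x hx hxZ
      obtain ⟨s, hs, e⟩ := hfull x (hc.1 hx) hxZ u (hne huQ)
      exact ⟨s, hN hs, e ▸ huQ, e ▸ hu⟩
  exact isRealizable_of_normal_centric hS hF hSn
    (isCentric_of_isNormal hSn fun x hx => hx.1)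

end CfsgLib.SylowLie
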