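import Cfsg.Prelude.Def_Classical

/-!
# Sylow 2-subgroups of the plus orthogonal group over two elements meet pairwise

A Sylow 2-subgroup stabilizes a totally singular subspace `V` of dimension `m - 1`; the pointwise
stabilizer of `V` is a 2-group, hence lies in it; and two such subspaces are always fixed by a
common non-trivial reflection or Siegel transformation.
-/

set_option autoImplicit false
set_option linter.all false

namespace CfsgLib.SylowLie.PlusPairsTwo

open Module Matrix
open scoped Pointwise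

variable {F : Type*} [Field F] [Fintype F] {m : ℕ}

local notation "𝕍" => (Fin m ⊕ Fin m → F)

local notation "qq" => Cfsg.quadFormPlus m F

/-- the polar form -/
noncomputable def pol : LinearMap.BilinForm F 𝕍 :=
  LinearMap.mk₂ F (fun (v w : 𝕍) => ∑ i : Fin m, (v (.inl i) * w (.inr i) + v (.inr i) * w (.inl i)))
    (fun a b c => by rw [← Finset.sum_add_distrib]; exact Finset.sum_congr rfl fun i _ => by simp only [Pi.add_apply]; ring)
    (fun c a b => by rw [Finset.smul_sum]; exact Finset.sum_congr rfl fun i _ => by simp only [Pi.smul_apply, smul_eq_mul]; ring)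
    (fun a b c => by rw [← Finset.sum_add_distrib]; exact Finset.sum_congr rfl fun i _ => by simp only [Pi.add_apply]; ring)
    (fun c a b => by rw [Finset.smul_sum]; exact Finset.sum_congr rfl fun i _ => by simp only [Pi.smul_apply, smul_eq_mul]; ring)

theorem q_add (v w : 𝕍) : qq (v + w) = qq v + qq w + pol v w := by
  show _ = _ + _ + ∑ i : Fin m, (v (.inl i) * w (.inr i) + v (.inr i) * w (.inl i))
  simp only [Cfsg.quadFormPlus, ← Finset.sum_add_distrib]
  exact Finset.sum_congr rfl fun i _ => by simp only [Pi.add_apply]; ring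

theorem q_smul (c : F) (v : 𝕍) : qq (c • v) = c * c * qq v := by
  simp only [Cfsg.quadFormPlus, Finset.mul_sum]
  exact Finset.sum_congr rfl fun i _ => by simp only [Pi.smul_apply, smul_eq_mul]; ring

theorem q_zero : qq (0 : 𝕍) = 0 := by simp [Cfsg.quadFormPlus]

theorem pol_apply (v w : 𝕍) :
    pol v w = ∑ i : Fin m, (v (.inl i) * w (.inr i) + v (.inr i) * w (.inl i)) := rfl

theorem pol_symm (v w : 𝕍) : pol v w = pol w v := by
  rw [pol_apply, pol_apply]
  exact Finset.sum_congr rfl fun i _ => by ring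

theorem pol_refl : (pol : LinearMap.BilinForm F 𝕍).IsRefl := fun v w h => by rwa [pol_symm]

theorem pol_nondeg : (pol : LinearMap.BilinForm F 𝕍).Nondegenerate := by
  classical
  have key : ∀ x : 𝕍, (∀ y, pol x y = 0) → x = 0 := by
    intro x hx
    funext j
    rcases j with i | i
    · have h := hx (Pi.single (Sum.inr i) 1)
      simpa [pol, Pi.single_apply] using h
    · have h := hx (Pi.single (Sum.inl i) 1)
      simpa [pol, Pi.single_apply] using h
  exact ⟨key, fun x hx => key x fun y => by rw [pol_symm]; exact hx y⟩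

theorem finrank_space : finrank F 𝕍 = 2 * m := by
  rw [Module.finrank_fintype_fun_eq_card, Fintype.card_sum, Fintype.card_fin]; ring

variable (hF : Fintype.card F = 2)
include hF

theorem two_zero : (2 : F) = 0 := by
  have h := FiniteField.cast_card_eq_zero F
  rw [hF] at h
  exact_mod_cast h

theorem cases_zero_one (a : F) : a = 0 ∨ a = 1 := by
  classical
  by_contra h
  push Not at h
  have h3 : ({0, 1, a} : Finset F).card ≤ Fintype.card F := Finset.card_le_univ _
  rw [Finset.card_insert_of_notMem (by simp [h.1.symm]), Finset.card_pair h.2.symm] at h3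
  omega

theorem pol_self (v : 𝕍) : pol v v = 0 := by
  rw [pol_apply]
  exact Finset.sum_eq_zero fun i _ => by
    linear_combination (v (Sum.inl i) * v (Sum.inr i)) * two_zero hF

omit hF

/-- the linear map of an isometry -/
def act (g : Cfsg.isometryGroup F qq) : 𝕍 →ₗ[F] 𝕍 := Matrix.mulVecLin g.1.1

theorem act_mul (g h : Cfsg.isometryGroup F qq) (x : 𝕍) : act (g * h) x = act g (act h x) :=
  (Matrix.mulVec_mulVec x g.1.1 h.1.1).symm

theorem act_one (x : 𝕍) : act (1 : Cfsg.isometryGroup F qq) x = x := Matrix.one_mulVec x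

theorem act_inv_act (g : Cfsg.isometryGroup F qq) (x : 𝕍) : act g⁻¹ (act g x) = x := by
  rw [← act_mul, inv_mul_cancel, act_one]

theorem act_act_inv (g : Cfsg.isometryGroup F qq) (x : 𝕍) : act g (act g⁻¹ x) = x := by
  rw [← act_mul, mul_inv_cancel, act_one]

theorem act_q (g : Cfsg.isometryGroup F qq) (x : 𝕍) : qq (act g x) = qq x := g.2 x x

theorem act_pol (g : Cfsg.isometryGroup F qq) (x y : 𝕍) : pol (act g x) (act g y) = pol x y := by
  have h := q_add (act g x) (act g y)
  rw [← map_add, act_q, act_q, act_q, q_add] at h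
  linear_combination -h

theorem act_inj (g : Cfsg.isometryGroup F qq) : Function.Injective (act g) :=
  Function.LeftInverse.injective (act_inv_act g)

theorem act_ext (g h : Cfsg.isometryGroup F qq) (hgh : ∀ x, act g x = act h x) : g = h :=
  Subtype.ext (Units.ext (Matrix.ext_of_mulVec_single fun i => hgh _))

/-- an involutive isometry as an element of the group -/
noncomputable def mkIso (T : 𝕍 →ₗ[F] 𝕍) (hT : ∀ y, T (T y) = y) (hQ : ∀ y, qq (T y) = qq y) :
    Cfsg.isometryGroup F qq :=
  ⟨⟨LinearMap.toMatrix' T, LinearMap.toMatrix' T,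
      by rw [← LinearMap.toMatrix'_comp, ← LinearMap.toMatrix'_id]; exact congrArg _ (LinearMap.ext hT),
      by rw [← LinearMap.toMatrix'_comp, ← LinearMap.toMatrix'_id]; exact congrArg _ (LinearMap.ext hT)⟩,
    fun u _ => by
      show qq (LinearMap.toMatrix' T *ᵥ u) = qq u
      rw [LinearMap.toMatrix'_mulVec, hQ]⟩

theorem act_mkIso (T : 𝕍 →ₗ[F] 𝕍) (hT : ∀ y, T (T y) = y) (hQ : ∀ y, qq (T y) = qq y) (y : 𝕍) :
    act (mkIso T hT hQ) y = T y :=
  LinearMap.toMatrix'_mulVec T y

/-- totally singular -/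
def TS (V : Submodule F 𝕍) : Prop := ∀ v ∈ V, qq v = 0

theorem TS.pol_eq {V : Submodule F 𝕍} (hV : TS V) {v w : 𝕍} (hv : v ∈ V) (hw : w ∈ V) :
    pol v w = 0 := by
  have h := q_add v w
  rw [hV v hv, hV w hw, hV _ (add_mem hv hw)] at h
  linear_combination -h

theorem TS.le_orth {V : Submodule F 𝕍} (hV : TS V) : V ≤ pol.orthogonal V :=
  fun v hv n hn => hV.pol_eq hn hv

theorem map_orth (g : Cfsg.isometryGroup F qq) (V : Submodule F 𝕍) (hg : V.map (act g) = V)
    {x : 𝕍} (hx : x ∈ pol.orthogonal V) : act g x ∈ pol.orthogonal V := by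
  intro n hn
  rw [← hg] at hn
  obtain ⟨n', hn', rfl⟩ := hn
  rw [act_pol]
  exact hx n' hn'

include hF

/-- the sum of the form over a space of dimension at least three vanishes -/
theorem sum_q_eq_zero (W : Submodule F 𝕍) [Fintype W] (hW : 3 ≤ finrank F W) :
    ∑ w : W, qq (w : 𝕍) = 0 := by
  classical
  obtain ⟨e, he⟩ : ∃ e, finrank F W = e + 3 := ⟨finrank F W - 3, by omega⟩
  let f : (F × F × F × (Fin e → F)) ≃ₗ[F] W := LinearEquiv.ofFinrankEq _ _ (by
    rw [Module.finrank_prod, Module.finrank_prod, Module.finrank_prod, Module.finrank_self,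
      Module.finrank_fintype_fun_eq_card, Fintype.card_fin, he]; ring)
  set a : 𝕍 := (f (1, 0, 0, 0) : 𝕍) with ha
  set b : 𝕍 := (f (0, 1, 0, 0) : 𝕍) with hb
  set c : 𝕍 := (f (0, 0, 1, 0) : 𝕍) with hc
  have hf : ∀ x : F × F × F × (Fin e → F),
      (f x : 𝕍) = x.1 • a + (x.2.1 • b + (x.2.2.1 • c + (f (0, 0, 0, x.2.2.2) : 𝕍))) := by
    intro x
    rw [ha, hb, hc, ← Submodule.coe_smul, ← Submodule.coe_smul, ← Submodule.coe_smul,
      ← Submodule.coe_add, ← Submodule.coe_add, ← Submodule.coe_add, ← map_smul, ← map_smul,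
      ← map_smul, ← map_add, ← map_add, ← map_add]
    congr 2
    ext <;> simp
  obtain ⟨ρ, hρ⟩ : ∃ ρ : (Fin e → F) → 𝕍, ∀ x : F × F × F × (Fin e → F),
      (f x : 𝕍) = x.1 • a + (x.2.1 • b + (x.2.2.1 • c + ρ x.2.2.2)) :=
    ⟨fun r => (f (0, 0, 0, r) : 𝕍), hf⟩
  have hu : (Finset.univ : Finset F) = {0, 1} := by
    ext z; simpa using cases_zero_one hF z
  have hs : ∀ φ : F → F, ∑ z, φ z = φ 0 + φ 1 := fun φ => by
    rw [hu, Finset.sum_pair zero_ne_one]
  rw [← Fintype.sum_equiv f.toEquiv (fun x => qq (f x : 𝕍)) (fun w : W => qq (w : 𝕍)) (fun _ => rfl)]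
  simp only [Fintype.sum_prod_type, hs, ← Finset.sum_add_distrib]
  refine Finset.sum_eq_zero fun r _ => ?_
  simp only [hρ, q_add, zero_smul, one_smul, map_add, map_zero, zero_add, LinearMap.add_apply,
    LinearMap.zero_apply, q_zero]
  have h4 : (4 : F) = 0 := by linear_combination 2 * two_zero hF
  have h8 : (8 : F) = 0 := by linear_combination 4 * two_zero hF
  ring_nf
  simp [two_zero hF, h4, h8]

/-- the number of singular vectors in such a space is even -/
theorem even_zeros (W : Submodule F 𝕍) (hW : 3 ≤ finrank F W) :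
    2 ∣ Nat.card {w : W // qq (w : 𝕍) = 0} := by
  classical
  haveI : Fintype W := Fintype.ofFinite _
  haveI : CharP F 2 := CharTwo.of_one_ne_zero_of_two_eq_zero one_ne_zero (two_zero hF)
  have h : ((Nat.card {w : W // qq (w : 𝕍) = 0} : ℕ) : F) = 0 := by
    rw [Nat.card_eq_fintype_card, Fintype.card_subtype, Finset.card_filter, Nat.cast_sum]
    calc (∑ w : W, (((if qq (w : 𝕍) = 0 then 1 else 0 : ℕ)) : F))
        = ∑ w : W, (1 + qq (w : 𝕍)) := Finset.sum_congr rfl fun w _ => by
          rcases cases_zero_one hF (qq (w : 𝕍)) with h | h <;> rw [h]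
          · simp
          · simp only [one_ne_zero, if_false, Nat.cast_zero]
            linear_combination -two_zero hF
      _ = 0 := by
          rw [Finset.sum_add_distrib, sum_q_eq_zero hF W hW, Finset.sum_const, Finset.card_univ,
            Module.card_eq_pow_finrank (K := F) (V := W), hF, nsmul_eq_mul, Nat.cast_pow]
          simp [two_zero hF, zero_pow (show finrank F W ≠ 0 by omega)]
  exact (CharP.cast_eq_zero_iff F 2 _).1 h

/-- a 2-group stabilizes a totally singular subspace of each dimension below `m` -/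
theorem exists_stable {H : Subgroup (Cfsg.isometryGroup F qq)} (hH : IsPGroup 2 H) :
    ∀ k, k + 1 ≤ m → ∃ V : Submodule F 𝕍, finrank F V = k ∧ TS V ∧ ∀ h ∈ H, V.map (act h) = V := by
  classical
  intro k
  induction k with
  | zero =>
    exact fun _ => ⟨⊥, finrank_bot F _, fun v hv => by rw [(Submodule.mem_bot F).1 hv, q_zero],
      fun h _ => Submodule.map_bot _⟩
  | succ k ih =>
    intro hk
    obtain ⟨V, hVd, hV, hHV⟩ := ih (by omega)
    obtain ⟨C, hC⟩ := exists_isCompl V
    set W : Submodule F 𝕍 := C ⊓ pol.orthogonal V with hW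
    have hdisj : V ⊓ W = ⊥ :=
      eq_bot_iff.2 fun x hx => by
        rw [← hC.inf_eq_bot]; exact ⟨hx.1, hx.2.1⟩
    have hsup : V ⊔ W = pol.orthogonal V := by
      rw [hW, ← sup_inf_assoc_of_le C hV.le_orth, hC.sup_eq_top, top_inf_eq]
    have hWd : 3 ≤ finrank F W := by
      have h1 := Submodule.finrank_sup_add_finrank_inf_eq V W
      rw [hdisj, hsup, finrank_bot, LinearMap.BilinForm.finrank_orthogonal pol_nondeg,
        finrank_space, hVd] at h1
      omega
    let S := {L : Submodule F 𝕍 // finrank F L = k + 1 ∧ TS L ∧ V ≤ L}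
    have hact : ∀ (h : H) (L : S), finrank F (L.1.map (act h.1)) = k + 1 ∧
        TS (L.1.map (act h.1)) ∧ V ≤ L.1.map (act h.1) := fun h L =>
      ⟨by rw [← (Submodule.equivMapOfInjective _ (act_inj h.1) L.1).finrank_eq]; exact L.2.1,
        by rintro _ ⟨v, hv, rfl⟩; rw [act_q]; exact L.2.2.1 v hv,
        (hHV h.1 h.2).ge.trans (Submodule.map_mono L.2.2.2)⟩
    letI : MulAction H S :=
      { smul := fun h L => ⟨L.1.map (act h.1), hact h L⟩
        one_smul := fun L => Subtype.ext (by
          show L.1.map (act (1 : H).1) = L.1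
          rw [show act (1 : H).1 = LinearMap.id from LinearMap.ext fun x => act_one x, Submodule.map_id])
        mul_smul := fun a b L => Subtype.ext (by
          show L.1.map (act (a * b).1) = (L.1.map (act b.1)).map (act a.1)
          rw [← Submodule.map_comp]
          congr 1
          exact LinearMap.ext fun x => act_mul a.1 b.1 x) }
    let Z := {w : W // qq (w : 𝕍) = 0}
    have hmk : ∀ w : {z : Z // (z.1 : 𝕍) ≠ 0},
        finrank F (V ⊔ Submodule.span F {(w.1.1 : 𝕍)} : Submodule F 𝕍) = k + 1 ∧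
          TS (V ⊔ Submodule.span F {(w.1.1 : 𝕍)}) ∧ V ≤ V ⊔ Submodule.span F {(w.1.1 : 𝕍)} := by
      intro w
      refine ⟨?_, ?_, le_sup_left⟩
      · have h1 := Submodule.finrank_sup_add_finrank_inf_eq V (Submodule.span F {(w.1.1 : 𝕍)})
        have h2 : V ⊓ Submodule.span F {(w.1.1 : 𝕍)} = ⊥ := eq_bot_iff.2 fun x hx => by
          rw [← hdisj]
          exact ⟨hx.1, (Submodule.span_singleton_le_iff_mem _ _).2 w.1.1.2 hx.2⟩
        rw [h2, finrank_bot, finrank_span_singleton w.2, hVd, add_zero] at h1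
        exact h1
      · intro x hx
        obtain ⟨v, hv, y, hy, rfl⟩ := Submodule.mem_sup.1 hx
        obtain ⟨c, rfl⟩ := Submodule.mem_span_singleton.1 hy
        rw [q_add, hV v hv, q_smul, w.1.2, map_smul, (w.1.1.2.2 v hv : pol v _ = 0)]
        simp
    let φ : {z : Z // (z.1 : 𝕍) ≠ 0} → S := fun w => ⟨_, hmk w⟩
    have hφ : Function.Bijective φ := by
      constructor
      · intro w w' he
        have he' : V ⊔ Submodule.span F {(w.1.1 : 𝕍)} = V ⊔ Submodule.span F {(w'.1.1 : 𝕍)} :=
          congrArg Subtype.val he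
        have hm : (w'.1.1 : 𝕍) ∈ V ⊔ Submodule.span F {(w.1.1 : 𝕍)} := by
          rw [he']; exact Submodule.mem_sup_right (Submodule.mem_span_singleton_self _)
        obtain ⟨v, hv, y, hy, hvy⟩ := Submodule.mem_sup.1 hm
        obtain ⟨c, rfl⟩ := Submodule.mem_span_singleton.1 hy
        have hv0 : v = 0 := by
          have : v ∈ V ⊓ W := ⟨hv, by
            rw [eq_sub_of_add_eq hvy]; exact sub_mem w'.1.1.2 (W.smul_mem c w.1.1.2)⟩
          rwa [hdisj, Submodule.mem_bot] at this
        rw [hv0, zero_add] at hvy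
        rcases cases_zero_one hF c with rfl | rfl
        · exact absurd (by rw [← hvy, zero_smul]) w'.2
        · exact Subtype.ext (Subtype.ext (Subtype.ext (by rw [← hvy, one_smul])))
      · rintro ⟨L, hLd, hL, hVL⟩
        obtain ⟨x, hxL, hxV⟩ := SetLike.exists_of_lt
          (lt_of_le_of_ne hVL fun e => by rw [← e, hVd] at hLd; omega)
        have hx : x ∈ V ⊔ W := hsup ▸ fun n hn => hL.pol_eq (hVL hn) hxL
        obtain ⟨v, hv, w, hw, rfl⟩ := Submodule.mem_sup.1 hx
        have hwL : w ∈ L := (Submodule.add_mem_iff_right L (hVL hv)).1 hxL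
        have hw0 : w ≠ 0 := fun e => hxV (by rw [e, add_zero]; exact hv)
        refine ⟨⟨⟨⟨w, hw⟩, hL w hwL⟩, hw0⟩, Subtype.ext ?_⟩
        exact Submodule.eq_of_le_of_finrank_eq
          (sup_le hVL ((Submodule.span_singleton_le_iff_mem _ _).2 hwL))
          ((hmk ⟨⟨⟨w, hw⟩, hL w hwL⟩, hw0⟩).1.trans hLd.symm)
    have hodd : ¬ 2 ∣ Nat.card S := by
      haveI : Fintype Z := Fintype.ofFinite _
      have h0 : Nat.card {z : Z // (z.1 : 𝕍) = 0} = 1 := Nat.card_eq_one_iff_unique.2
        ⟨⟨fun a b => Subtype.ext (Subtype.ext (Subtype.ext (a.2.trans b.2.symm)))⟩,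
          ⟨⟨⟨0, q_zero⟩, rfl⟩⟩⟩
      have h1 : Nat.card Z = Nat.card {z : Z // (z.1 : 𝕍) = 0} + Nat.card {z : Z // (z.1 : 𝕍) ≠ 0} := by
        rw [← Nat.card_sum]
        exact Nat.card_congr (Equiv.sumCompl _).symm
      have h2 : 2 ∣ Nat.card Z := even_zeros hF W hWd
      rw [← Nat.card_congr (Equiv.ofBijective φ hφ)]
      omega
    obtain ⟨L, hL⟩ := hH.nonempty_fixed_point_of_prime_not_dvd_card S hodd
    exact ⟨L.1, L.2.1, L.2.2.1, fun h hh => congrArg Subtype.val (hL ⟨h, hh⟩)⟩

/-- the pointwise stabilizer of a totally singular subspace of dimension `m - 1` has exponent dividing 8 -/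
theorem fixer_pow_eight {V : Submodule F 𝕍} (hVd : finrank F V + 1 = m) (hV : TS V)
    (g : Cfsg.isometryGroup F qq) (hg : ∀ v ∈ V, act g v = v) : g ^ 8 = 1 := by
  classical
  set P := pol.orthogonal V with hP
  have hPd : finrank F P = finrank F V + 2 := by
    rw [hP, LinearMap.BilinForm.finrank_orthogonal pol_nondeg, finrank_space]; omega
  have hrad : ∀ v ∈ P, (∀ n ∈ P, pol n v = 0) → v ∈ V := fun v _ h => by
    rw [← LinearMap.BilinForm.orthogonal_orthogonal pol_nondeg pol_refl V]; exact h
  obtain ⟨a, ha, haV, haq⟩ : ∃ a ∈ P, a ∉ V ∧ qq a = 0 := by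
    by_contra hno
    push Not at hno
    let L : Submodule F 𝕍 := LinearMap.ker (LinearMap.funLeft F F (Sum.inr : Fin m → Fin m ⊕ Fin m))
    have hL : TS L := fun v hv => Finset.sum_eq_zero fun i _ => by
      rw [show v (Sum.inr i) = 0 from congrFun (LinearMap.mem_ker.1 hv) i, mul_zero]
    have hLd : m ≤ finrank F L := by
      have h := LinearMap.finrank_range_add_finrank_ker
        (LinearMap.funLeft F F (Sum.inr : Fin m → Fin m ⊕ Fin m))
      rw [finrank_space] at h
      have h2 := Submodule.finrank_le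
        (LinearMap.range (LinearMap.funLeft F F (Sum.inr : Fin m → Fin m ⊕ Fin m)))
      rw [Module.finrank_fintype_fun_eq_card, Fintype.card_fin] at h2
      show m ≤ finrank F (LinearMap.ker _)
      omega
    have hle : L ⊓ P = L ⊓ V := le_antisymm
      (fun x hx => ⟨hx.1, by_contra fun hn => hno x hx.2 hn (hL x hx.1)⟩)
      (inf_le_inf_left L hV.le_orth)
    have hsub : L ⊔ P ≤ pol.orthogonal (L ⊓ V) :=
      sup_le (fun x hx n hn => hL.pol_eq hn.1 hx) (LinearMap.BilinForm.orthogonal_le inf_le_right)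
    have h1 := Submodule.finrank_mono hsub
    have h2 := Submodule.finrank_sup_add_finrank_inf_eq L P
    have h3 := Submodule.finrank_mono (inf_le_right : L ⊓ V ≤ V)
    rw [hle] at h2
    rw [LinearMap.BilinForm.finrank_orthogonal pol_nondeg, finrank_space] at h1
    omega
  obtain ⟨b, hb, hab, hbq⟩ : ∃ b ∈ P, pol a b = 1 ∧ qq b = 0 := by
    obtain ⟨b, hb, hab⟩ : ∃ b ∈ P, pol b a ≠ 0 := by
      by_contra hno
      push Not at hno
      exact haV (hrad a ha hno)
    have hab1 : pol a b = 1 := ((cases_zero_one hF _).resolve_left (by rwa [pol_symm]))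
    rcases cases_zero_one hF (qq b) with hq | hq
    · exact ⟨b, hb, hab1, hq⟩
    · refine ⟨b + a, add_mem hb ha, by rw [map_add, hab1, pol_self hF, add_zero], ?_⟩
      rw [q_add, hq, haq, pol_symm, hab1]
      linear_combination two_zero hF
  have hdec : ∀ v ∈ P, ∃ p ∈ V, ∃ s t : F, v = p + s • a + t • b := by
    intro v hv
    refine ⟨v - pol v b • a - pol v a • b, ?_, pol v b, pol v a, by abel⟩
    refine hrad _ (sub_mem (sub_mem hv (P.smul_mem _ ha)) (P.smul_mem _ hb)) fun n hn => ?_
    set z := v - pol v b • a - pol v a • b with hz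
    have hza : pol a z = 0 := by
      rw [hz]; simp [pol_self hF, hab, pol_symm a v]
    have hzb : pol b z = 0 := by
      rw [hz]; simp [pol_self hF, pol_symm b a, hab, pol_symm b v]
    have hzV : ∀ p ∈ V, pol p z = 0 := (sub_mem (sub_mem hv (P.smul_mem _ ha)) (P.smul_mem _ hb) : z ∈ P)
    have htop : V ⊔ Submodule.span F {a} ⊔ Submodule.span F {b} = P := by
      refine Submodule.eq_of_le_of_finrank_le (sup_le (sup_le hV.le_orth
        ((Submodule.span_singleton_le_iff_mem _ _).2 ha))
        ((Submodule.span_singleton_le_iff_mem _ _).2 hb)) ?_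
      have hlt : V < V ⊔ Submodule.span F {a} := lt_of_le_not_ge le_sup_left fun h =>
        haV (h (Submodule.mem_sup_right (Submodule.mem_span_singleton_self _)))
      have hlt2 : V ⊔ Submodule.span F {a} < V ⊔ Submodule.span F {a} ⊔ Submodule.span F {b} :=
        lt_of_le_not_ge le_sup_left fun h => by
          obtain ⟨p, hp, y, hy, hpy⟩ := Submodule.mem_sup.1
            (h (Submodule.mem_sup_right (Submodule.mem_span_singleton_self b)))
          obtain ⟨c, rfl⟩ := Submodule.mem_span_singleton.1 hy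
          rw [← hpy, map_add, map_smul, pol_self hF, smul_zero, add_zero, pol_symm, ha p hp] at hab
          exact zero_ne_one hab
      have e1 := Submodule.finrank_lt_finrank_of_lt hlt
      have e2 := Submodule.finrank_lt_finrank_of_lt hlt2
      omega
    rw [← htop] at hn
    obtain ⟨y, hy, y', hy', rfl⟩ := Submodule.mem_sup.1 hn
    obtain ⟨p, hp, y'', hy'', rfl⟩ := Submodule.mem_sup.1 hy
    obtain ⟨c, rfl⟩ := Submodule.mem_span_singleton.1 hy'
    obtain ⟨d, rfl⟩ := Submodule.mem_span_singleton.1 hy''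
    simp [hzV p hp, hza, hzb]
  have hgV : V.map (act g) = V := le_antisymm (by rintro _ ⟨v, hv, rfl⟩; rwa [hg v hv])
    fun v hv => ⟨v, hv, hg v hv⟩
  have hkey : ∀ x ∈ P, x ∉ V → qq x = 0 → ∃ p ∈ V, act g x = p + a ∨ act g x = p + b := by
    intro x hx hxV hq
    obtain ⟨p, hp, s, t, e⟩ := hdec _ (map_orth g V hgV hx)
    refine ⟨p, hp, ?_⟩
    have hqe : qq (act g x) = s * t := by
      rw [e, q_add, q_add, hV p hp, q_smul, q_smul, haq, hbq]
      simp [hab, ha p hp, hb p hp, mul_comm]
    rw [act_q, hq] at hqe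
    rcases cases_zero_one hF s with rfl | rfl <;> rcases cases_zero_one hF t with rfl | rfl
    · refine absurd ?_ hxV
      rw [show x = p from act_inj g (by rw [e, hg p hp]; simp)]
      exact hp
    · right; rw [e]; simp
    · left; rw [e]; simp
    · simp at hqe
  have hbV : b ∉ V := fun h => one_ne_zero (hab.symm.trans (by rw [pol_symm]; exact ha b h))
  obtain ⟨p, hp, hga⟩ := hkey a ha haV haq
  obtain ⟨r, hr, hgb⟩ := hkey b hb hbV hbq
  have hpol : pol (act g a) (act g b) = 1 := by rw [act_pol, hab]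
  have hh : ∀ x ∈ P, act (g * g) x - x ∈ V := by
    have h2 : act (g * g) a - a ∈ V ∧ act (g * g) b - b ∈ V := by
      rw [act_mul, act_mul]
      rcases hga with hga | hga <;> rcases hgb with hgb | hgb
      · exfalso
        rw [hga, hgb] at hpol
        have h := ha r hr; have h' := ha p hp
        simp [hV.pol_eq hp hr, pol_symm a r, h, h', pol_self hF] at hpol
      · rw [hga, hgb, map_add, map_add, hga, hgb, hg p hp, hg r hr]
        constructor
        · convert add_mem hp hp using 1; abel
        · convert add_mem hr hr using 1; abel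
      · rw [hga, hgb, map_add, map_add, hga, hgb, hg p hp, hg r hr]
        constructor
        · convert add_mem hp hr using 1; abel
        · convert add_mem hr hp using 1; abel
      · exfalso
        rw [hga, hgb] at hpol
        have h := hb r hr; have h' := hb p hp
        simp [hV.pol_eq hp hr, pol_symm b r, h, h', pol_self hF] at hpol
    intro x hx
    obtain ⟨q, hq, s, t, rfl⟩ := hdec x hx
    have e : act (g * g) (q + s • a + t • b) - (q + s • a + t • b) =
        s • (act (g * g) a - a) + t • (act (g * g) b - b) := by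
      rw [map_add, map_add, map_smul, map_smul, show act (g * g) q = q by rw [act_mul, hg q hq, hg q hq]]
      module
    rw [e]
    exact add_mem (V.smul_mem _ h2.1) (V.smul_mem _ h2.2)
  set f := act (g * g) with hf
  let N : 𝕍 →ₗ[F] 𝕍 := f - LinearMap.id
  have hN1 : ∀ x, N x ∈ P := fun x n hn => by
    have hfn : f n = n := by rw [hf, act_mul, hg n hn, hg n hn]
    have h := act_pol (g * g) n x
    rw [← hf, hfn] at h
    show pol n (f x - x) = 0
    rw [map_sub, h, sub_self]
  have hN3 : ∀ x, N (N (N x)) = 0 := fun x => by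
    have h := hh _ (hN1 x)
    have h' : N (N x) ∈ V := h
    show f (N (N x)) - N (N x) = 0
    rw [show f (N (N x)) = N (N x) by rw [hf, act_mul, hg _ h', hg _ h'], sub_self]
  have hfx : ∀ x, f x = x + N x := fun x => by show f x = x + (f x - x); abel
  have htwo : ∀ y : 𝕍, y + y = 0 := fun y => by rw [← two_smul F, two_zero hF, zero_smul]
  have hff : ∀ x, f (f x) = x + N (N x) := fun x => by
    rw [hfx, hfx x, map_add]
    calc x + N x + (N x + N (N x)) = x + (N x + N x) + N (N x) := by abel
      _ = x + N (N x) := by rw [htwo, add_zero]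
  refine act_ext _ _ fun x => ?_
  have e : ∀ a b c d : Cfsg.isometryGroup F qq,
      act (a * (b * (c * d))) x = act a (act b (act c (act d x))) := fun a b c d => by
    simp only [act_mul]
  rw [show g ^ 8 = (g * g) * ((g * g) * ((g * g) * (g * g))) by
      simp only [pow_succ, pow_zero, one_mul, mul_assoc],
    e, act_one, ← hf, hff x, hff (x + N (N x))]
  simp [map_add, hN3, htwo, add_assoc]

omit hF

/-- the pointwise stabilizer -/
def fixer (V : Submodule F 𝕍) : Subgroup (Cfsg.isometryGroup F qq) where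
  carrier := {g | ∀ v ∈ V, act g v = v}
  mul_mem' := fun {a b} ha hb v hv => by rw [act_mul, hb v hv, ha v hv]
  one_mem' := fun v _ => act_one v
  inv_mem' := fun {a} ha v hv => by nth_rw 1 [← ha v hv]; rw [act_inv_act]

include hF

theorem fixer_le (H : Sylow 2 (Cfsg.isometryGroup F qq)) {V : Submodule F 𝕍}
    (hVd : finrank F V + 1 = m) (hV : TS V)
    (hHV : ∀ h ∈ (H : Subgroup (Cfsg.isometryGroup F qq)), V.map (act h) = V) :
    fixer V ≤ (H : Subgroup (Cfsg.isometryGroup F qq)) := by
  have hK : IsPGroup 2 (fixer V) := fun g => ⟨3, Subtype.ext (fixer_pow_eight hF hVd hV g.1 g.2)⟩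
  have hmem : ∀ h ∈ (H : Subgroup (Cfsg.isometryGroup F qq)), ∀ k ∈ fixer V, h * k * h⁻¹ ∈ fixer V := by
    intro h hh k hk v hv
    rw [act_mul, act_mul, hk _ (by
      rw [← hHV h⁻¹ (inv_mem hh)]; exact Submodule.mem_map_of_mem hv), act_act_inv]
  have hN : (H : Subgroup (Cfsg.isometryGroup F qq)) ≤
      Subgroup.normalizer ((fixer V : Subgroup (Cfsg.isometryGroup F qq)) : Set (Cfsg.isometryGroup F qq)) := by
    intro h hh
    rw [Subgroup.mem_set_normalizer_iff]
    intro k
    refine ⟨hmem h hh k, fun hk => ?_⟩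
    have := hmem h⁻¹ (inv_mem hh) _ hk
    rwa [show h⁻¹ * (h * k * h⁻¹) * h⁻¹⁻¹ = k by group] at this
  have h := IsPGroup.to_sup_of_normal_right' H.isPGroup' hK hN
  rw [← H.is_maximal' h le_sup_left]
  exact le_sup_right

/-- two subspaces of dimension below `m` are fixed by a common non-trivial isometry -/
theorem exists_common {V V' : Submodule F 𝕍} (hVd : finrank F V + 1 = m)
    (hVd' : finrank F V' + 1 = m) : ∃ t, t ≠ 1 ∧ t ∈ fixer V ∧ t ∈ fixer V' := by
  classical
  set W := pol.orthogonal (V ⊔ V') with hW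
  have hWd : 2 ≤ finrank F W := by
    rw [hW, LinearMap.BilinForm.finrank_orthogonal pol_nondeg, finrank_space]
    have := Submodule.finrank_add_le_finrank_add_finrank V V'
    omega
  have key : ∀ (T : 𝕍 →ₗ[F] 𝕍) (hT : ∀ y, T (T y) = y) (hQ : ∀ y, qq (T y) = qq y),
      (∃ y, T y ≠ y) → (∀ y ∈ V ⊔ V', T y = y) → ∃ t, t ≠ 1 ∧ t ∈ fixer V ∧ t ∈ fixer V' := by
    intro T hT hQ hne hfix
    refine ⟨mkIso T hT hQ, fun e => ?_, fun v hv => ?_, fun v hv => ?_⟩
    · obtain ⟨y, hy⟩ := hne
      exact hy (by rw [← act_mkIso T hT hQ y, e, act_one])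
    · rw [act_mkIso]; exact hfix v (Submodule.mem_sup_left hv)
    · rw [act_mkIso]; exact hfix v (Submodule.mem_sup_right hv)
  have hex : ∀ u : 𝕍, u ≠ 0 → ∃ y, pol y u ≠ 0 := fun u hu => by
    by_contra h
    push Not at h
    exact hu (pol_nondeg.2 u h)
  by_cases hns : ∃ v ∈ W, qq v = 1
  · obtain ⟨v, hv, hq⟩ := hns
    have hT : ∀ y, y + pol y v • v + pol (y + pol y v • v) v • v = y := fun y => by
      rw [map_add, LinearMap.add_apply, map_smul, LinearMap.smul_apply, pol_self hF, smul_zero,
        add_zero, add_assoc, ← two_smul F (pol y v • v), two_zero hF, zero_smul, add_zero]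
    refine key (LinearMap.id + (pol.flip v).smulRight v) hT (fun y => ?_) ?_ fun y hy => ?_
    · show qq (y + pol y v • v) = qq y
      rw [q_add, q_smul, hq, map_smul, smul_eq_mul]
      linear_combination (pol y v * pol y v) * two_zero hF
    · have hv0 : v ≠ 0 := fun e => by rw [e, q_zero] at hq; exact zero_ne_one hq
      obtain ⟨y, hy⟩ := hex v hv0
      refine ⟨y, fun e => ?_⟩
      exact (smul_ne_zero hy hv0) (add_eq_left.1 (e : y + pol y v • v = y))
    · show y + pol y v • v = y
      rw [hv y hy, zero_smul, add_zero]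
  · push Not at hns
    have hts : TS W := fun v hv => (cases_zero_one hF _).resolve_right (hns v hv)
    obtain ⟨u, hu, hu0⟩ := Submodule.exists_mem_ne_zero_of_ne_bot (p := W) fun e => by
      rw [e, finrank_bot] at hWd; omega
    have hlt : Submodule.span F {u} < W :=
      (lt_of_le_of_ne ((Submodule.span_singleton_le_iff_mem _ _).2 hu) fun e => by
        have h1 := finrank_span_singleton (K := F) hu0
        rw [e] at h1
        omega)
    obtain ⟨w, hw, hwu⟩ := SetLike.exists_of_lt hlt
    let T : 𝕍 →ₗ[F] 𝕍 := LinearMap.id + ((pol.flip u).smulRight w + (pol.flip w).smulRight u)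
    have hTy : ∀ y, T y = y + (pol y u • w + pol y w • u) := fun y => rfl
    have hT : ∀ y, T (T y) = y := fun y => by
      have hin : ∀ z ∈ W, pol (T y) z = pol y z := fun z hz => by
        rw [hTy, map_add, map_add, map_smul, map_smul, LinearMap.add_apply, LinearMap.add_apply,
          LinearMap.smul_apply, LinearMap.smul_apply, hts.pol_eq hw hz, hts.pol_eq hu hz,
          smul_zero, smul_zero, add_zero, add_zero]
      rw [hTy (T y), hin u hu, hin w hw, hTy, add_assoc, ← two_smul F (pol y u • w + pol y w • u),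
        two_zero hF, zero_smul, add_zero]
    refine key T hT (fun y => ?_) ?_ fun y hy => ?_
    · rw [hTy, q_add, hts _ (add_mem (W.smul_mem _ hw) (W.smul_mem _ hu)), map_add, map_smul,
        map_smul, smul_eq_mul, smul_eq_mul]
      linear_combination (pol y u * pol y w) * two_zero hF
    · obtain ⟨y, hy⟩ := hex u hu0
      refine ⟨y, fun e => hwu ?_⟩
      rw [hTy, add_eq_left] at e
      rw [(cases_zero_one hF _).resolve_left hy, one_smul] at e
      rw [eq_neg_of_add_eq_zero_left e]
      exact neg_mem (Submodule.smul_mem _ _ (Submodule.mem_span_singleton_self _))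
    · rw [hTy, hu y hy, hw y hy, zero_smul, zero_smul, add_zero, add_zero]

theorem sylow_meet (hm : 1 ≤ m) (H : Sylow 2 (Cfsg.isometryGroup F qq)) (x : Cfsg.isometryGroup F qq) :
    (H : Subgroup (Cfsg.isometryGroup F qq)) ⊓ MulAut.conj x • (H : Subgroup (Cfsg.isometryGroup F qq)) ≠ ⊥ := by
  obtain ⟨V, hVd, hV, hHV⟩ := exists_stable hF H.isPGroup' (m - 1) (by omega)
  have hVd1 : finrank F V + 1 = m := by omega
  have hVd' : finrank F (V.map (act x)) + 1 = m := by
    rw [← (Submodule.equivMapOfInjective _ (act_inj x) V).finrank_eq]; omega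
  obtain ⟨t, ht, htV, htV'⟩ := exists_common hF hVd1 hVd'
  intro h
  refine ht ((Subgroup.eq_bot_iff_forall _).1 h t ⟨fixer_le hF H hVd1 hV hHV htV, ?_⟩)
  show t ∈ MulAut.conj x • (H : Subgroup (Cfsg.isometryGroup F qq))
  rw [Subgroup.mem_pointwise_smul_iff_inv_smul_mem, ← map_inv, MulAut.smul_def, MulAut.conj_apply, inv_inv]
  refine fixer_le hF H hVd1 hV hHV fun v hv => ?_
  rw [act_mul, act_mul, htV' _ (Submodule.mem_map_of_mem hv), act_inv_act]

end CfsgLib.SylowLie.PlusPairsTwo
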